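import Cfsg.Agent.Lib.Helper7.PoinTab
import Cfsg.Agent.Lib.Helper7.PolyList
import Cfsg.Agent.Lib.Helper7.S2B2

set_option autoImplicit false

namespace Cfsg.Agent.Lib.Helper7

open Cfsg.Lie

noncomputable def poB2_0 : StepC where
  I := 3
  J := 2
  m := 4
  TP := 0x2010403060507030501070006020404060207000501030706050403020100
  PG := 0x2010100000000
  ACT := 0x502010302000501
  θ := 7
  IX := 0x102000003
  Psi := 0x18

set_option maxHeartbeats 0 in
theorem poB2_0_G : poB2_0.chkG fastB2 fastWB2 = true := by decide +kernel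

set_option maxHeartbeats 0 in
theorem poB2_0_A_0 : allFrom 0 4 (StepC.chkA fastB2 fastWB2 poB2_0) = true := by decide +kernel
theorem poB2_0_A : ∀ r < 4, (StepC.chkA fastB2 fastWB2 poB2_0) r = true := by
  intro r hr
  exact allFrom_sound poB2_0_A_0 r (by omega) (by omega)

set_option maxHeartbeats 0 in
theorem poB2_0_H : histP (Sys2.cntF fastB2 poB2_0) 4 = [1, 1, 1, 1] := by decide +kernel

noncomputable def poB2_1 : StepC where
  I := 2
  J := 0
  m := 2
  TP := 0x7050603040102000706050403020100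
  PG := 0x1000000
  ACT := 0x100
  θ := 4
  IX := 0x1000000
  Psi := 0x0

set_option maxHeartbeats 0 in
theorem poB2_1_G : poB2_1.chkG fastB2 fastWB2 = true := by decide +kernel

set_option maxHeartbeats 0 in
theorem poB2_1_A_0 : allFrom 0 2 (StepC.chkA fastB2 fastWB2 poB2_1) = true := by decide +kernel
theorem poB2_1_A : ∀ r < 2, (StepC.chkA fastB2 fastWB2 poB2_1) r = true := by
  intro r hr
  exact allFrom_sound poB2_1_A_0 r (by omega) (by omega)

set_option maxHeartbeats 0 in
theorem poB2_1_H : histP (Sys2.cntF fastB2 poB2_1) 2 = [1, 1] := by decide +kernel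

set_option maxHeartbeats 0 in
theorem poIdB2 : prodP [[1, 1, 1, 1], [1, 1]] = prodP ([2, 4].map geomP) := by decide +kernel

theorem poinB2 (q : ℕ) : poin (Sys2.posF chevB2) (sys2B2.WI 3) q =
    (([2, 4].map geomP).map fun L => evalP L q).prod := by
  have h0 : poin (Sys2.posF chevB2) (sys2B2.WI 3) q =
      evalP [1, 1, 1, 1] q * poin (Sys2.posF chevB2) (sys2B2.WI 2) q := by
    rw [← poB2_0_H, evalP_histP]
    exact sys2B2.step poB2_0 poB2_0_G poB2_0_A q
  have h1 : poin (Sys2.posF chevB2) (sys2B2.WI 2) q =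
      evalP [1, 1] q * poin (Sys2.posF chevB2) (sys2B2.WI 0) q := by
    rw [← poB2_1_H, evalP_histP]
    exact sys2B2.step poB2_1 poB2_1_G poB2_1_A q
  have hl : poin (Sys2.posF chevB2) (sys2B2.WI 0) q = 1 := by rw [Sys2.WI_zero, poin_bot]
  rw [← evalP_prodP, ← poIdB2, evalP_prodP, h0, h1, hl]
  simp only [List.map_cons, List.map_nil, List.prod_cons, List.prod_nil, mul_one, mul_assoc]

end Cfsg.Agent.Lib.Helper7
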