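import Cfsg.Agent.Lib.Helper7.PoinTab
import Cfsg.Agent.Lib.Helper7.PolyList
import Cfsg.Agent.Lib.Helper7.S2D4

set_option autoImplicit false

namespace Cfsg.Agent.Lib.Helper7

open Cfsg.Lie

noncomputable def poD4_0 : StepC where
  I := 15
  J := 13
  m := 24
  TP := 0x908070612040302010d0c0b0a161514130511100f0e17010e0b0a061305030200100f08071715141204110d0c0916020f0c0a071405040100110e09061716131203100d0b081506130b0a010e120807001514030217100f0509160d0c041103100b0d0815050104000e11060917131612020f0a0c071407140c0a020f120906001613040117110e0508150d0b031004110c0d0916050203000f10070817141512010e0a0b061308150b0d03101206090013160104170e110507140a0c020f05110f100e17040203010c0d0a0b161415130009070806120a140f07020c130e060117120500161109040b151008030d09160c0d04111207080014150203170f100506130a0b010e0b150810030d13060e0112170005160911040a14070f020c121614151317090708060c0d0a0b110f100e0004020301050d161109040c1510080317120500140f07020b130e06010a0e170f100511130a0b0114150203160c0d040612070800090c160911040d14070f0212170005150810030a13060e010b1317141512160e0a0b060f100708110c0d090105020300041017110e050f150d0b0316130401140c0a020812090600070f170e110510140a0c0213160104150b0d03071206090008151716131214100d0b08110e09060f0c0a070305040100021417131612150f0a0c070e110609100b0d080205010400031117100f050e160d0c0415140302130b0a01091208070006161715141213110d0c09100f08070e0b0a0604050302000117161514131211100f0e0d0c0b0a09080706050403020100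
  PG := 0x1160213021102100010020d000d010c000b020a01090308010701060305010503030302020203010201000101000000
  ACT := 0x1b1a16181513171416111b121210181611161a10140d0e1513150f0d0d140c131a1b110b180a121b101209110818101a1a1b070f180e061b05060d070c18051a03040b0902090a040902080301071b0607011a0506051801040300021b1a0118
  θ := 23
  IX := 0x10403070b020605090a080c0e0d1012140f1113151617
  Psi := 0x43c20

set_option maxHeartbeats 0 in
theorem poD4_0_G : poD4_0.chkG fastD4 fastWD4 = true := by decide +kernel

set_option maxHeartbeats 0 in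
theorem poD4_0_A_0 : allFrom 0 24 (StepC.chkA fastD4 fastWD4 poD4_0) = true := by decide +kernel
theorem poD4_0_A : ∀ r < 24, (StepC.chkA fastD4 fastWD4 poD4_0) r = true := by
  intro r hr
  exact allFrom_sound poD4_0_A_0 r (by omega) (by omega)

set_option maxHeartbeats 0 in
theorem poD4_0_H : histP (Sys2.cntF fastD4 poD4_0) 24 = [1, 1, 3, 3, 4, 4, 3, 3, 1, 1] := by decide +kernel

noncomputable def poD4_1 : StepC where
  I := 13
  J := 5
  m := 2
  TP := 0x17151613141210110e0f0d0b0c0a0809060705030401020017161514131211100f0e0d0c0b0a09080706050403020100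
  PG := 0x3000000
  ACT := 0x4000201040002
  θ := 12
  IX := 0x10000000000000000000000
  Psi := 0x42420

set_option maxHeartbeats 0 in
theorem poD4_1_G : poD4_1.chkG fastD4 fastWD4 = true := by decide +kernel

set_option maxHeartbeats 0 in
theorem poD4_1_A_0 : allFrom 0 2 (StepC.chkA fastD4 fastWD4 poD4_1) = true := by decide +kernel
theorem poD4_1_A : ∀ r < 2, (StepC.chkA fastD4 fastWD4 poD4_1) r = true := by
  intro r hr
  exact allFrom_sound poD4_1_A_0 r (by omega) (by omega)

set_option maxHeartbeats 0 in
theorem poD4_1_H : histP (Sys2.cntF fastD4 poD4_1) 2 = [1, 1] := by decide +kernel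

noncomputable def poD4_2 : StepC where
  I := 5
  J := 1
  m := 2
  TP := 0x1714131615120f0e11100a0c0b0d0706090805020104030017161514131211100f0e0d0c0b0a09080706050403020100
  PG := 0x2000000
  ACT := 0x200010002
  θ := 13
  IX := 0x100000000000000000000
  Psi := 0x40020

set_option maxHeartbeats 0 in
theorem poD4_2_G : poD4_2.chkG fastD4 fastWD4 = true := by decide +kernel

set_option maxHeartbeats 0 in
theorem poD4_2_A_0 : allFrom 0 2 (StepC.chkA fastD4 fastWD4 poD4_2) = true := by decide +kernel
theorem poD4_2_A : ∀ r < 2, (StepC.chkA fastD4 fastWD4 poD4_2) r = true := by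
  intro r hr
  exact allFrom_sound poD4_2_A_0 r (by omega) (by omega)

set_option maxHeartbeats 0 in
theorem poD4_2_H : histP (Sys2.cntF fastD4 poD4_2) 2 = [1, 1] := by decide +kernel

noncomputable def poD4_3 : StepC where
  I := 1
  J := 0
  m := 2
  TP := 0x1711100f0e05161514130d0c0b0a0403020112090807060017161514131211100f0e0d0c0b0a09080706050403020100
  PG := 0x0
  ACT := 0x1
  θ := 18
  IX := 0x10000000000
  Psi := 0x0

set_option maxHeartbeats 0 in
theorem poD4_3_G : poD4_3.chkG fastD4 fastWD4 = true := by decide +kernel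

set_option maxHeartbeats 0 in
theorem poD4_3_A_0 : allFrom 0 2 (StepC.chkA fastD4 fastWD4 poD4_3) = true := by decide +kernel
theorem poD4_3_A : ∀ r < 2, (StepC.chkA fastD4 fastWD4 poD4_3) r = true := by
  intro r hr
  exact allFrom_sound poD4_3_A_0 r (by omega) (by omega)

set_option maxHeartbeats 0 in
theorem poD4_3_H : histP (Sys2.cntF fastD4 poD4_3) 2 = [1, 1] := by decide +kernel

set_option maxHeartbeats 0 in
theorem poIdD4 : prodP [[1, 1, 3, 3, 4, 4, 3, 3, 1, 1], [1, 1], [1, 1], [1, 1]] = prodP ([2, 4, 4, 6].map geomP) := by decide +kernel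

theorem poinD4 (q : ℕ) : poin (Sys2.posF chevD4) (sys2D4.WI 15) q =
    (([2, 4, 4, 6].map geomP).map fun L => evalP L q).prod := by
  have h0 : poin (Sys2.posF chevD4) (sys2D4.WI 15) q =
      evalP [1, 1, 3, 3, 4, 4, 3, 3, 1, 1] q * poin (Sys2.posF chevD4) (sys2D4.WI 13) q := by
    rw [← poD4_0_H, evalP_histP]
    exact sys2D4.step poD4_0 poD4_0_G poD4_0_A q
  have h1 : poin (Sys2.posF chevD4) (sys2D4.WI 13) q =
      evalP [1, 1] q * poin (Sys2.posF chevD4) (sys2D4.WI 5) q := by
    rw [← poD4_1_H, evalP_histP]
    exact sys2D4.step poD4_1 poD4_1_G poD4_1_A q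
  have h2 : poin (Sys2.posF chevD4) (sys2D4.WI 5) q =
      evalP [1, 1] q * poin (Sys2.posF chevD4) (sys2D4.WI 1) q := by
    rw [← poD4_2_H, evalP_histP]
    exact sys2D4.step poD4_2 poD4_2_G poD4_2_A q
  have h3 : poin (Sys2.posF chevD4) (sys2D4.WI 1) q =
      evalP [1, 1] q * poin (Sys2.posF chevD4) (sys2D4.WI 0) q := by
    rw [← poD4_3_H, evalP_histP]
    exact sys2D4.step poD4_3 poD4_3_G poD4_3_A q
  have hl : poin (Sys2.posF chevD4) (sys2D4.WI 0) q = 1 := by rw [Sys2.WI_zero, poin_bot]
  rw [← evalP_prodP, ← poIdD4, evalP_prodP, h0, h1, h2, h3, hl]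
  simp only [List.map_cons, List.map_nil, List.prod_cons, List.prod_nil, mul_one, mul_assoc]

end Cfsg.Agent.Lib.Helper7
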