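import Cfsg.Agent.Lib.Helper7.PoinTab
import Cfsg.Agent.Lib.Helper7.PolyList
import Cfsg.Agent.Lib.Helper7.S2G2

set_option autoImplicit false

namespace Cfsg.Agent.Lib.Helper7

open Cfsg.Lie

noncomputable def poG2_0 : StepC where
  I := 3
  J := 1
  m := 6
  TP := 0x5030207010a040908060b0106040208000b030907050a050a070309000b0208040106060b080409010a02070300050a0b090708050603040200010b0a09080706050403020100
  PG := 0x10400030102000101000000
  ACT := 0x40605030204030100020106
  θ := 11
  IX := 0x100000002030000000405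
  Psi := 0x90

set_option maxHeartbeats 0 in
theorem poG2_0_G : poG2_0.chkG fastG2 fastWG2 = true := by decide +kernel

set_option maxHeartbeats 0 in
theorem poG2_0_A_0 : allFrom 0 6 (StepC.chkA fastG2 fastWG2 poG2_0) = true := by decide +kernel
theorem poG2_0_A : ∀ r < 6, (StepC.chkA fastG2 fastWG2 poG2_0) r = true := by
  intro r hr
  exact allFrom_sound poG2_0_A_0 r (by omega) (by omega)

set_option maxHeartbeats 0 in
theorem poG2_0_H : histP (Sys2.cntF fastG2 poG2_0) 6 = [1, 1, 1, 1, 1, 1] := by decide +kernel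

noncomputable def poG2_1 : StepC where
  I := 1
  J := 0
  m := 2
  TP := 0xb060809040a0107020305000b0a09080706050403020100
  PG := 0x0
  ACT := 0x1
  θ := 7
  IX := 0x100000000
  Psi := 0x0

set_option maxHeartbeats 0 in
theorem poG2_1_G : poG2_1.chkG fastG2 fastWG2 = true := by decide +kernel

set_option maxHeartbeats 0 in
theorem poG2_1_A_0 : allFrom 0 2 (StepC.chkA fastG2 fastWG2 poG2_1) = true := by decide +kernel
theorem poG2_1_A : ∀ r < 2, (StepC.chkA fastG2 fastWG2 poG2_1) r = true := by
  intro r hr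
  exact allFrom_sound poG2_1_A_0 r (by omega) (by omega)

set_option maxHeartbeats 0 in
theorem poG2_1_H : histP (Sys2.cntF fastG2 poG2_1) 2 = [1, 1] := by decide +kernel

set_option maxHeartbeats 0 in
theorem poIdG2 : prodP [[1, 1, 1, 1, 1, 1], [1, 1]] = prodP ([2, 6].map geomP) := by decide +kernel

theorem poinG2 (q : ℕ) : poin (Sys2.posF chevG2) (sys2G2.WI 3) q =
    (([2, 6].map geomP).map fun L => evalP L q).prod := by
  have h0 : poin (Sys2.posF chevG2) (sys2G2.WI 3) q =
      evalP [1, 1, 1, 1, 1, 1] q * poin (Sys2.posF chevG2) (sys2G2.WI 1) q := by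
    rw [← poG2_0_H, evalP_histP]
    exact sys2G2.step poG2_0 poG2_0_G poG2_0_A q
  have h1 : poin (Sys2.posF chevG2) (sys2G2.WI 1) q =
      evalP [1, 1] q * poin (Sys2.posF chevG2) (sys2G2.WI 0) q := by
    rw [← poG2_1_H, evalP_histP]
    exact sys2G2.step poG2_1 poG2_1_G poG2_1_A q
  have hl : poin (Sys2.posF chevG2) (sys2G2.WI 0) q = 1 := by rw [Sys2.WI_zero, poin_bot]
  rw [← evalP_prodP, ← poIdG2, evalP_prodP, h0, h1, hl]
  simp only [List.map_cons, List.map_nil, List.prod_cons, List.prod_nil, mul_one, mul_assoc]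

end Cfsg.Agent.Lib.Helper7
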