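import Cfsg.Agent.Lib.Helper7.Sys5
import Cfsg.Agent.Lib.Helper7.S4E6

set_option autoImplicit false

namespace Cfsg.Agent.Lib.Helper7

open Cfsg.Lie

set_option maxHeartbeats 0 in
theorem t2E6_0 : allFrom 0 30 (t2Chk fastE6) = true := by decide +kernel
set_option maxHeartbeats 0 in
theorem t2E6_1 : allFrom 30 30 (t2Chk fastE6) = true := by decide +kernel
set_option maxHeartbeats 0 in
theorem t2E6_2 : allFrom 60 12 (t2Chk fastE6) = true := by decide +kernel
theorem t2E6 : ∀ r < 72, (t2Chk fastE6) r = true := by
  intro r hr
  by_cases h0 : r < 30
  · exact allFrom_sound t2E6_0 r (by omega) (by omega)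
  by_cases h1 : r < 60
  · exact allFrom_sound t2E6_1 r (by omega) (by omega)
  exact allFrom_sound t2E6_2 r (by omega) (by omega)

set_option maxHeartbeats 0 in
noncomputable def sys5E6 : Sys5 chevE6 where
  toSys4 := sys4E6
  t2 := t2E6
  Lv := 0x149a3000139a3000139630001395b0001395a000137630001375b0001375a0001371b0001371a000137120001271b0001271a00012712000126d2000124d20000b7630000b75b0000b75a0000b71b0000b71a0000b7120000b51b0000b51a0000b5120000b4d20000a71b0000a71a0000a7120000a6d20000a51b0000a51a0000a5120000a4db0000a4da0000a4d30000a4d10000a4ca0000a4c90000a4920000a48a0000a4890000a2d20000a2920000a28a0000a289000094d2000094920000948a00009489000092920000928a000092890000924a0000924900009241000024d2000022d2000022920000228a00002289000012920000128a000012890000124a00001249000012410000104a00001049000010410000100100000001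
  C0 := 42194
  hC := by decide +kernel
  levOK := by decide +kernel
  Bz := 0x10000010000010000010000010000010000010000010000010000010000010000010000010000010000010000010000010010010010010010010010010010010010010010010010010010010010010020010020010020010020010030010030010030010040010040010050000000000000000000000000000000000000000000000000000000000000000000000000000000000000000000000000000000000000000000000000000000000000000000000000000000000000000000000000000000000000000000000000000000000000000000000000
  bezOK := by decide +kernel

end Cfsg.Agent.Lib.Helper7
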