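import Cfsg.Agent.Lib.Helper7.Sys5
import Cfsg.Agent.Lib.Helper7.S4E7

set_option autoImplicit false

namespace Cfsg.Agent.Lib.Helper7

open Cfsg.Lie

set_option maxHeartbeats 0 in
theorem t2E7_0 : allFrom 0 30 (t2Chk fastE7) = true := by decide +kernel
set_option maxHeartbeats 0 in
theorem t2E7_1 : allFrom 30 30 (t2Chk fastE7) = true := by decide +kernel
set_option maxHeartbeats 0 in
theorem t2E7_2 : allFrom 60 30 (t2Chk fastE7) = true := by decide +kernel
set_option maxHeartbeats 0 in
theorem t2E7_3 : allFrom 90 30 (t2Chk fastE7) = true := by decide +kernel
set_option maxHeartbeats 0 in
theorem t2E7_4 : allFrom 120 6 (t2Chk fastE7) = true := by decide +kernel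
theorem t2E7 : ∀ r < 126, (t2Chk fastE7) r = true := by
  intro r hr
  by_cases h0 : r < 30
  · exact allFrom_sound t2E7_0 r (by omega) (by omega)
  by_cases h1 : r < 60
  · exact allFrom_sound t2E7_1 r (by omega) (by omega)
  by_cases h2 : r < 90
  · exact allFrom_sound t2E7_2 r (by omega) (by omega)
  by_cases h3 : r < 120
  · exact allFrom_sound t2E7_3 r (by omega) (by omega)
  exact allFrom_sound t2E7_4 r (by omega) (by omega)

set_option maxHeartbeats 0 in
noncomputable def sys5E7 : Sys5 chevE7 where
  toSys4 := sys4E7
  t2 := t2E7
  Lv := 0x442fa30034ed630034c6530034c26b0034c2070034c1fd0034c1fc00333bcb00333b6700333b5d00333b5c0033377f00333775003337740033371100333710003337060033106f0033106500331064003310010033100000330ff600330c1900330c1800330c0e00330baa00318579003185780031856e0031850a0031812200315a120023ce2f0023ce250023ce240023cdc10023cdc00023cdb60023c9d90023c9d80023c9ce0023c96a0023a2c90023a2c80023a2be0023a25a00239e7200224339002243380022432e002242ca00223ee200221c2900221c2800221c1e00221bba002218410022184000221836002217dd002217dc002217d3002217d1002217c8002217c70022176e0022176400221763002213ea002213860022137c0022137b0021f0c20021ecda0021ec760021ec6c0021ec6b0020913200208d4a00208ce600208cdc00208cdb0020663a002065d6002065cc002065cb002061ee002061e4002061e3002061800020617f002061750012d5920012ae820012aa9a0012aa360012aa2c0012aa2b001123fa001123960011238c0011238b00111fae00111fa400111fa300111f4000111f3f00111f350010f89e0010f8940010f8930010f8300010f82f0010f8250010f4480010f4470010f43d0010f3d9000f6da8000f6da7000f6d9d000f6d39000f6951000f424100000001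
  C0 := 2234322
  hC := by decide +kernel
  levOK := by decide +kernel
  Bz := 0x11020010000010000010000010000010000010000010000010000010000010000010000010000010000010000010000010000010000010000010000010000010000010000010000010000010000010000010000010000010000010000010000010000010010010010010010010010010010010010010010010010010010010010010010010010010010010010010010010020010020010020010020010020010030010030010030010030010040010040010040010050010050010060000000000000000000000000000000000000000000000000000000000000000000000000000000000000000000000000000000000000000000000000000000000000000000000000000000000000000000000000000000000000000000000000000000000000000000000000000000000000000000000000000000000000000000000000000000000000000000000000000000000000000000000000000000000000000000000000000000000000000000000000000000000000000000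
  bezOK := by decide +kernel

end Cfsg.Agent.Lib.Helper7
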