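import Cfsg.Agent.Lib.Helper7.WE8
import Cfsg.Agent.Lib.Helper7.Comm3

set_option autoImplicit false

namespace Cfsg.Agent.Lib.Helper7

open Cfsg.Lie

noncomputable def cmCE8 : ℕ := 0x1c71b61a51941831721611621531441351261171001511431341251161070f21241151060f70e31050f60e70d40e60d70c50c70b60a10f50e60d70c40d60c70b50b70a60930c60b70a50a70960840970860750620b60a709509708607408707606505307706605504403106705604503402301200f0c60b70a50a70960840970860750630870760650540410970860750640520630770660550440330200870760650540420970860750630a70960840b70a50c60d60b50c70940a60b70730850960a70520640750860970300430540650760870730620740850960a70510640750860970730850960a70940a60b70b50c70d60100220330440550660770410540650760870630750860970840960a70a50b70c60720850960a70940a60b70b50c70d60a30b60c70c50d70e60d40e70f61050b10c60d70d50e70f60e40f71061150f31071161251341021171261351441531611101271361451541631721711821931a41b51c61d7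

set_option maxHeartbeats 0 in
theorem agree2E8 : Agree2 chevE8 fastE8 := Agree2.mk' (by decide +kernel) (by decide +kernel)

set_option maxHeartbeats 0 in
theorem cmBE8_162_0 : allFrom 0 40 (baseF fastE8 162) = true := by decide +kernel
set_option maxHeartbeats 0 in
theorem cmBE8_162_1 : allFrom 40 40 (baseF fastE8 162) = true := by decide +kernel
set_option maxHeartbeats 0 in
theorem cmBE8_162_2 : allFrom 80 40 (baseF fastE8 162) = true := by decide +kernel
set_option maxHeartbeats 0 in
theorem cmBE8_162_3 : allFrom 120 40 (baseF fastE8 162) = true := by decide +kernel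
set_option maxHeartbeats 0 in
theorem cmBE8_162_4 : allFrom 160 40 (baseF fastE8 162) = true := by decide +kernel
set_option maxHeartbeats 0 in
theorem cmBE8_162_5 : allFrom 200 40 (baseF fastE8 162) = true := by decide +kernel
theorem cmBE8_162 : ∀ r < 240, (baseF fastE8 162) r = true := by
  intro r hr
  by_cases h0 : r < 40
  · exact allFrom_sound cmBE8_162_0 r (by omega) (by omega)
  by_cases h1 : r < 80
  · exact allFrom_sound cmBE8_162_1 r (by omega) (by omega)
  by_cases h2 : r < 120
  · exact allFrom_sound cmBE8_162_2 r (by omega) (by omega)
  by_cases h3 : r < 160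
  · exact allFrom_sound cmBE8_162_3 r (by omega) (by omega)
  by_cases h4 : r < 200
  · exact allFrom_sound cmBE8_162_4 r (by omega) (by omega)
  exact allFrom_sound cmBE8_162_5 r (by omega) (by omega)


end Cfsg.Agent.Lib.Helper7
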