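import Cfsg.Agent.Lib.Helper7.Sys5
import Cfsg.Agent.Lib.Helper7.S4G2

set_option autoImplicit false

namespace Cfsg.Agent.Lib.Helper7

open Cfsg.Lie

set_option maxHeartbeats 0 in
theorem t2G2_0 : allFrom 0 12 (t2Chk fastG2) = true := by decide +kernel
theorem t2G2 : ∀ r < 12, (t2Chk fastG2) r = true := by
  intro r hr
  exact allFrom_sound t2G2_0 r (by omega) (by omega)

set_option maxHeartbeats 0 in
noncomputable def sys5G2 : Sys5 chevG2 where
  toSys4 := sys4G2
  t2 := t2G2
  Lv := 0x35000000340000002c00000024000000230000001c0000001a00000013000000120000000a0000000200000001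
  C0 := 27
  hC := by decide +kernel
  levOK := by decide +kernel
  Bz := 0x10000010000011010010000010000010010000000000000000000000000000000000000
  bezOK := by decide +kernel

end Cfsg.Agent.Lib.Helper7
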