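import Cfsg.Agent.Lib.Helper7.SC1
import Cfsg.Agent.Lib.Helper7.S5G2
import Cfsg.Agent.Lib.Helper7.S5B2
import Cfsg.Agent.Lib.Helper7.S5D4
import Cfsg.Agent.Lib.Helper7.S5F4
import Cfsg.Agent.Lib.Helper7.S5E6
import Cfsg.Agent.Lib.Helper7.S5E7
import Cfsg.Agent.Lib.Helper7.S5E8

set_option autoImplicit false
set_option linter.unusedSimpArgs false
set_option linter.unusedVariables false

namespace Cfsg.Agent.Lib.Helper7

open Cfsg.Lie Cfsg.Lie.ChevalleyDatum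

theorem scChkD4 : allLt 24 (fun p => oneTerm fastD4
    (([1, 0, 0, 0, 0, 1, 0, 0, 0, 0, 1, 1, 2, 3, 1, 2, 3, 4, 6, 6, 7, 8, 9, 14] : List ℕ).getD p 0)
    (([9, 14, 15, 16, 17, 17, 19, 20, 21, 22, 20, 21, 22, 22, 23, 23, 23, 23, 22, 23, 23, 23, 23, 22] : List ℕ).getD p 0) p 1) = true := by decide +kernel

theorem sc_perfect_D4 {K : Type*} [Field K] : commutator (chevD4.SteinbergCover K) = ⊤ :=
  sys5D4.toSys4.sc_perfect _ _ scChkD4

theorem scChkF4 : allLt 48 (fun p => oneTerm fastF4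
    (([1, 0, 0, 7, 0, 0, 1, 3, 3, 3, 3, 3, 3, 3, 3, 0, 0, 1, 7, 7, 7, 0, 1, 0, 1, 2, 2, 8, 9, 10, 4, 4, 5, 7, 8, 9, 10, 11, 12, 13, 14, 15, 15, 16, 33, 21, 23, 24] : List ℕ).getD p 0)
    (([23, 24, 26, 14, 31, 32, 32, 33, 34, 35, 36, 37, 38, 39, 40, 42, 43, 43, 37, 38, 39, 45, 45, 46, 47, 46, 47, 40, 40, 40, 46, 47, 47, 44, 44, 44, 44, 44, 44, 44, 44, 46, 47, 47, 40, 47, 47, 46] : List ℕ).getD p 0) p 1) = true := by decide +kernel

theorem sc_perfect_F4 {K : Type*} [Field K] : commutator (chevF4.SteinbergCover K) = ⊤ :=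
  sys5F4.toSys4.sc_perfect _ _ scChkF4

theorem scChkE6 : allLt 72 (fun p => oneTerm fastE6
    (([1, 0, 0, 0, 0, 0, 0, 0, 0, 0, 0, 1, 1, 1, 2, 5, 0, 0, 0, 0, 0, 0, 0, 0, 0, 0, 1, 1, 1, 2, 1, 1, 1, 2, 2, 3, 4, 3, 4, 2, 3, 4, 5, 5, 6, 7, 1, 2, 3, 4, 5, 6, 7, 8, 9, 10, 16, 16, 16, 17, 18, 16, 17, 18, 19, 20, 21, 22, 23, 24, 25, 46] : List ℕ).getD p 0)
    (([25, 46, 47, 48, 49, 50, 51, 52, 53, 54, 55, 53, 54, 55, 55, 55, 61, 62, 63, 64, 65, 66, 67, 68, 69, 70, 64, 65, 66, 66, 67, 68, 69, 67, 68, 67, 68, 69, 69, 70, 70, 70, 69, 70, 70, 70, 71, 71, 71, 71, 71, 71, 71, 71, 71, 71, 66, 69, 70, 70, 70, 71, 71, 71, 71, 71, 71, 71, 71, 71, 71, 70] : List ℕ).getD p 0) p 1) = true := by decide +kernel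

theorem sc_perfect_E6 {K : Type*} [Field K] : commutator (chevE6.SteinbergCover K) = ⊤ :=
  sys5E6.toSys4.sc_perfect _ _ scChkE6

theorem scChkE7 : allLt 126 (fun p => oneTerm fastE7
    (([1, 0, 0, 0, 0, 0, 0, 0, 0, 0, 0, 0, 0, 0, 0, 0, 0, 0, 0, 0, 0, 0, 0, 0, 0, 0, 0, 0, 0, 0, 0, 0, 0, 1, 1, 1, 1, 1, 1, 1, 1, 1, 1, 2, 2, 2, 2, 3, 1, 1, 1, 1, 1, 2, 2, 2, 2, 3, 3, 3, 4, 4, 5, 6, 5, 6, 4, 5, 6, 3, 4, 5, 6, 2, 3, 4, 5, 6, 7, 7, 8, 9, 10, 7, 8, 9, 10, 11, 12, 13, 14, 15, 16, 1, 2, 3, 4, 5, 6, 7, 8, 9, 10, 11, 12, 13, 14, 15, 16, 17, 18, 19, 20, 21, 22, 23, 24, 25, 26, 27, 28, 29, 30, 31, 32, 93] : List ℕ).getD p 0)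
    (([32, 93, 94, 95, 96, 97, 98, 99, 100, 101, 102, 103, 104, 105, 106, 107, 108, 109, 110, 111, 112, 113, 114, 115, 116, 117, 118, 119, 120, 121, 122, 123, 124, 109, 110, 111, 112, 113, 114, 115, 116, 117, 118, 115, 116, 117, 118, 118, 119, 120, 121, 122, 123, 119, 120, 121, 122, 119, 120, 121, 119, 120, 119, 120, 121, 121, 122, 122, 122, 123, 123, 123, 123, 124, 124, 124, 124, 124, 122, 123, 123, 123, 123, 124, 124, 124, 124, 124, 124, 124, 124, 124, 124, 125, 125, 125, 125, 125, 125, 125, 125, 125, 125, 125, 125, 125, 125, 125, 125, 125, 125, 125, 125, 125, 125, 125, 125, 125, 125, 125, 125, 125, 125, 125, 125, 124] : List ℕ).getD p 0) p 1) = true := by decide +kernel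

theorem sc_perfect_E7 {K : Type*} [Field K] : commutator (chevE7.SteinbergCover K) = ⊤ :=
  sys5E7.toSys4.sc_perfect _ _ scChkE7

theorem scChkE8 : allLt 240 (fun p => oneTerm fastE8
    (([1, 0, 0, 0, 0, 0, 0, 0, 0, 0, 0, 0, 0, 1, 0, 0, 0, 0, 0, 0, 1, 0, 0, 0, 0, 1, 0, 0, 0, 1, 0, 0, 1, 0, 1, 2, 0, 0, 0, 1, 0, 0, 1, 0, 1, 2, 0, 0, 1, 0, 1, 2, 0, 1, 2, 3, 0, 0, 1, 0, 1, 2, 0, 1, 2, 3, 0, 1, 2, 3, 4, 0, 1, 2, 3, 4, 5, 6, 0, 0, 1, 0, 1, 2, 0, 1, 2, 3, 0, 1, 2, 3, 4, 0, 1, 2, 3, 4, 5, 0, 1, 2, 3, 4, 5, 0, 1, 2, 3, 4, 0, 1, 2, 3, 0, 1, 2, 0, 1, 0, 1, 2, 2, 3, 3, 3, 4, 4, 4, 4, 5, 5, 5, 5, 5, 6, 6, 6, 6, 6, 6, 7, 7, 7, 7, 7, 7, 8, 8, 8, 8, 8, 9, 9, 9, 9, 10, 10, 10, 11, 11, 12, 14, 14, 14, 14, 14, 14, 14, 15, 15, 15, 15, 15, 16, 16, 16, 16, 17, 17, 17, 18, 18, 19, 21, 21, 21, 21, 22, 22, 22, 23, 23, 24, 26, 26, 26, 27, 27, 28, 30, 30, 31, 33, 36, 36, 36, 37, 37, 38, 40, 40, 41, 43, 46, 46, 47, 49, 52, 56,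 56, 57, 59, 62, 66, 71, 78, 78, 79, 81, 84, 88, 93, 99, 105, 110, 114, 117, 119, 120] : List ℕ).getD p 0)
    (([119, 120, 122, 125, 129, 134, 140, 146, 151, 155, 158, 160, 161, 161, 168, 173, 177, 180, 182, 183, 183, 187, 190, 192, 193, 193, 196, 198, 199, 199, 201, 202, 202, 203, 203, 203, 206, 208, 209, 209, 211, 212, 212, 213, 213, 213, 215, 216, 216, 217, 217, 217, 218, 218, 218, 218, 220, 221, 221, 222, 222, 222, 223, 223, 223, 223, 224, 224, 224, 224, 224, 225, 225, 225, 225, 225, 225, 225, 227, 228, 228, 229, 229, 229, 230, 230, 230, 230, 231, 231, 231, 231, 231, 232, 232, 232, 232, 232, 232, 233, 233, 233, 233, 233, 233, 234, 234, 234, 234, 234, 235, 235, 235, 235, 236, 236, 236, 237, 237, 238, 239, 238, 239, 237, 238, 239, 236, 237, 238, 239, 235, 236, 237, 238, 239, 234, 235, 236, 237, 238, 239, 234, 235, 236, 237, 238, 239, 235, 236, 237, 238, 239, 236, 237, 238, 239, 237, 238, 239, 238, 239,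 239, 233, 234, 235, 236, 237, 238, 239, 235, 236, 237, 238, 239, 236, 237, 238, 239, 237, 238, 239, 238, 239, 239, 236, 237, 238, 239, 237, 238, 239, 238, 239, 239, 237, 238, 239, 238, 239, 239, 238, 239, 239, 239, 237, 238, 239, 238, 239, 239, 238, 239, 239, 239, 238, 239, 239, 239, 239, 238, 239, 239, 239, 239, 239, 239, 238, 239, 239, 239, 239, 239, 239, 239, 239, 239, 239, 239, 239, 238] : List ℕ).getD p 0) p 1) = true := by decide +kernel

theorem sc_perfect_E8 {K : Type*} [Field K] : commutator (chevE8.SteinbergCover K) = ⊤ :=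
  sys5E8.toSys4.sc_perfect _ _ scChkE8

theorem sc_perfect_G2 {K : Type*} [Field K] (hl : ∃ x : K, x ≠ 0 ∧ x ≠ 1) :
    commutator (chevG2.SteinbergCover K) = ⊤ := by
  have L0 : ∀ v : K, scAb chevG2 K 0 v = 1 := fun v =>
    sys5G2.toSys4.sc_kill_oneTerm (x := 1) (y := 5) (by decide +kernel) v
  have L1 : ∀ v : K, scAb chevG2 K 1 v = 1 := fun v =>
    sys5G2.toSys4.sc_kill_oneTerm (x := 0) (y := 6) (by decide +kernel) v
  have L5 : ∀ v : K, scAb chevG2 K 5 v = 1 := fun v =>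
    sys5G2.toSys4.sc_kill_oneTerm (x := 0) (y := 10) (by decide +kernel) v
  have L6 : ∀ v : K, scAb chevG2 K 6 v = 1 := fun v =>
    sys5G2.toSys4.sc_kill_oneTerm (x := 1) (y := 11) (by decide +kernel) v
  have L10 : ∀ v : K, scAb chevG2 K 10 v = 1 := fun v =>
    sys5G2.toSys4.sc_kill_oneTerm (x := 5) (y := 11) (by decide +kernel) v
  have L11 : ∀ v : K, scAb chevG2 K 11 v = 1 := fun v =>
    sys5G2.toSys4.sc_kill_oneTerm (x := 6) (y := 10) (by decide +kernel) v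
  have A := scAb_kill2 (D := chevG2) (K := K) (r := 0) (s := 8) (γ1 := 2) (γ2 := 4) (c1 := 1) (c2 := 1)
    (by decide) (by decide) (by decide) (by decide)
    (show chevG2.commTerms 0 8 = [(2, 1, 1, 1), (4, 1, 1, 2), (6, -1, 1, 3), (1, -2, 2, 3)] by decide +kernel) (Or.inl rfl) (Or.inl rfl)
    (by
      intro c hc
      simp only [List.mem_cons, List.not_mem_nil, or_false] at hc
      rcases hc with rfl | rfl
      · exact L6
      · exact L1) (by decide) hl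
  have B := scAb_kill2 (D := chevG2) (K := K) (r := 0) (s := 9) (γ1 := 3) (γ2 := 7) (c1 := -1) (c2 := -1)
    (by decide) (by decide) (by decide) (by decide)
    (show chevG2.commTerms 0 9 = [(3, -1, 1, 1), (7, -1, 1, 2), (10, -1, 1, 3), (5, 2, 2, 3)] by decide +kernel) (Or.inr rfl) (Or.inr rfl)
    (by
      intro c hc
      simp only [List.mem_cons, List.not_mem_nil, or_false] at hc
      rcases hc with rfl | rfl
      · exact L10
      · exact L5) (by decide) hl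
  have C := scAb_kill2 (D := chevG2) (K := K) (r := 1) (s := 9) (γ1 := 4) (γ2 := 8) (c1 := -1) (c2 := 1)
    (by decide) (by decide) (by decide) (by decide)
    (show chevG2.commTerms 1 9 = [(4, -1, 1, 1), (8, 1, 1, 2), (11, 1, 1, 3), (6, -2, 2, 3)] by decide +kernel) (Or.inr rfl) (Or.inl rfl)
    (by
      intro c hc
      simp only [List.mem_cons, List.not_mem_nil, or_false] at hc
      rcases hc with rfl | rfl
      · exact L11
      · exact L6) (by decide) hl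
  have E := scAb_kill2 (D := chevG2) (K := K) (r := 5) (s := 8) (γ1 := 7) (γ2 := 9) (c1 := 1) (c2 := -1)
    (by decide) (by decide) (by decide) (by decide)
    (show chevG2.commTerms 5 8 = [(7, 1, 1, 1), (9, -1, 1, 2), (11, 1, 1, 3), (10, 2, 2, 3)] by decide +kernel) (Or.inl rfl) (Or.inr rfl)
    (by
      intro c hc
      simp only [List.mem_cons, List.not_mem_nil, or_false] at hc
      rcases hc with rfl | rfl
      · exact L11
      · exact L10) (by decide) hl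
  apply sc_perfect_of_kill
  intro r hr
  have hr' : r < 12 := hr
  interval_cases r
  · exact L0
  · exact L1
  · exact A.1
  · exact B.1
  · exact A.2
  · exact L5
  · exact L6
  · exact B.2
  · exact C.2
  · exact E.2
  · exact L10
  · exact L11

theorem sc_perfect_B2 {K : Type*} [Field K] (hl : ∃ x : K, x ≠ 0 ∧ x ≠ 1) :
    commutator (chevB2.SteinbergCover K) = ⊤ := by
  have A := scAb_kill2 (D := chevB2) (K := K) (r := 0) (s := 5) (γ1 := 1) (γ2 := 3) (c1 := 1) (c2 := -1)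
    (by decide) (by decide) (by decide) (by decide)
    (show chevB2.commTerms 0 5 = [(1, 1, 1, 1), (3, -1, 1, 2)] by decide +kernel) (Or.inl rfl) (Or.inr rfl)
    (by intro c hc; simp at hc) (by decide) hl
  have B := scAb_kill2 (D := chevB2) (K := K) (r := 0) (s := 6) (γ1 := 2) (γ2 := 4) (c1 := -1) (c2 := 1)
    (by decide) (by decide) (by decide) (by decide)
    (show chevB2.commTerms 0 6 = [(2, -1, 1, 1), (4, 1, 1, 2)] by decide +kernel) (Or.inr rfl) (Or.inl rfl)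
    (by intro c hc; simp at hc) (by decide) hl
  have C := scAb_kill2 (D := chevB2) (K := K) (r := 3) (s := 2) (γ1 := 1) (γ2 := 0) (c1 := -1) (c2 := -1)
    (by decide) (by decide) (by decide) (by decide)
    (show chevB2.commTerms 3 2 = [(1, -1, 1, 1), (0, -1, 1, 2)] by decide +kernel) (Or.inr rfl) (Or.inr rfl)
    (by intro c hc; simp at hc) (by decide) hl
  have E := scAb_kill2 (D := chevB2) (K := K) (r := 3) (s := 6) (γ1 := 5) (γ2 := 7) (c1 := 1) (c2 := 1)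
    (by decide) (by decide) (by decide) (by decide)
    (show chevB2.commTerms 3 6 = [(5, 1, 1, 1), (7, 1, 1, 2)] by decide +kernel) (Or.inl rfl) (Or.inl rfl)
    (by intro c hc; simp at hc) (by decide) hl
  have G := scAb_kill2 (D := chevB2) (K := K) (r := 4) (s := 5) (γ1 := 6) (γ2 := 7) (c1 := 1) (c2 := -1)
    (by decide) (by decide) (by decide) (by decide)
    (show chevB2.commTerms 4 5 = [(6, 1, 1, 1), (7, -1, 1, 2)] by decide +kernel) (Or.inl rfl) (Or.inr rfl)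
    (by intro c hc; simp at hc) (by decide) hl
  apply sc_perfect_of_kill
  intro r hr
  have hr' : r < 8 := hr
  interval_cases r
  · exact C.2
  · exact A.1
  · exact B.1
  · exact A.2
  · exact B.2
  · exact E.1
  · exact G.1
  · exact E.2

end Cfsg.Agent.Lib.Helper7
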