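import Cfsg.Agent.Lib.Helper7.TabE6
import Cfsg.Agent.Lib.Helper7.Refl

set_option autoImplicit false

namespace Cfsg.Agent.Lib.Helper7

open Cfsg.Lie

noncomputable def fastWE6 : FastW where
  S := 0x2425272a2e38
  R := 0x4723114874421102823e9f8f4773c1d0e470371acd86734190c2622f170b25a2b150a2522712c9847249088a401e0fc74381a0dc6430160bc5426148884a200f07034160c85020130603c140604810040047231128a4320d08803f1ecf8783a9d8e470369b8d46832998c45f30170b4572c150a44f281208a4d2192c8c3e208f074361c8d0642e188b0502b1309040230f070301b0b0482a10070281a080201c04004722d188843210fe7d41200f4783b1cce870371a4ce6c35190c4602e978b4582a958984a2094ca248230fc7a4f22108703b1b0d06033170b05424110a44e200f0683a180b0501c0c098441408030080a00472310a8340a2910863f1f0f4783b1d0e272371b0d4633097cd06632170a450270ecb6592b93094482311084391b8d4aa401f0f0642a14098622f1689044200e07c34180b050241004018080f0682c040046a3914884321104803c9dcea7e3e1e8e470371b0d45b2c95ca450270ccd06632150c6612f9309448231108431178b4742a14098ba401f0f072371a89044200f07028120806c3217070301408030100003472311488431b8d86a34198c85a2c158a81f42a0d027f3e9ecc4602f170f2773a9cca4502713094482311084401f0f03a1b0c85c6430170b02a130883c1a0b388e870361a0a85026120884008030100400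

set_option maxHeartbeats 0 in
theorem agreeWE6 : AgreeW chevE6 fastE6 fastWE6 where
  hsimple := by decide +kernel
  hsl := by decide +kernel
  hrefl := by decide +kernel
  hmono := by decide +kernel
  heta := by decide +kernel

end Cfsg.Agent.Lib.Helper7
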