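import Cfsg.Agent.Lib.Helper7.TabE7
import Cfsg.Agent.Lib.Helper7.Refl

set_option autoImplicit false

namespace Cfsg.Agent.Lib.Helper7

open Cfsg.Lie

noncomputable def fastWE7 : FastW where
  S := 0x3f404245494e5d
  R := 0x1f4f87b3d1e4ef783b1d4e774391c2e26eb79b4d86ab59a2d26732d98c86330d88c05f2f174b85aad962b2572ad58a85328d48a04f271329a4b251248f4823114874421102823e9fcf07b3b1c8ea70371a8da6833190c0632f170b4562c950a44e28930904b2211c84401f0f074361c8d0642e188b0502b1209c44200e07c301b0b0482a10070281a080301004007d3e1ecf478bc9dcec74ba9cce372381bcdb6e35db0d46933da0cc64b298cc460b097cbc5d2dd70b4592bd60ac54aa94ca450a893c9c4d25d3094492411a8e452210a863f1ed0679409f0e877391c0d86f351a0cc6232980bc5c2c16cac542814c9c4a269208c42229007c3c1c0ec6c34180cc5c2a168a04c2212878421c0d05832140804c1c0c0402c0c0401001f4f87b3cde8f0773add8e873391bedd71381b4d869b45acd46733194c76431184bf602f174b859ac56cb4572b154a754291449f5027134984aa5924904722d1882401dd12873f1f0ea73429e8f06e389b0d4683219cc4602f168ba582b148aa50271308c442592484401f0e87a381b0c86a3017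0b04c24158a444200d0603e1d0b050240e0883014060481004007d3e1eaf6793c1dcec72b8dc2ea74399bcdc6d361acd466b2d92d2683398cc4613017abe5d2e16cb456aad52b2582b94ca4512813a9e4d2612c934a2210c8438a451e8d41200fc7c3d1e0de6d35a2cec7439198d26431180b85f2d160ac542612890532893c8c4421100783f1d0e06c34160a85033188bc4c24110803c1c0a048201b0c85c1c0c05020080701001f4f77c3d1e4f0773b1d4e873365aed569b459ee471381bcdc6d33194c86331184c05f2ed78b85b2d164b05729546a14fab154a853271208e46228d29b4ca5d2a884321104803f1f0f4783b1d0e4673298cc293381b8d86a2f150a45027174b6592b930944823110843e208f074381b0d06430170803c1c0d0602c2d158a44e25118502410070301408030080a007d3e1eced75ba5cef4793c1dce471381bcdc6d361acd4693419cc561b057ecc653218cbc5d2e16cb4592c15c9b4ca5d2a9047231145f562a950a64929546a14fa210c8441200fc7c3d1e0ec7439174b6592b9a0a852281393a70371b0d4673298cc24c251208c44211007c34190c05c3d1d8e46e2c150a04c24110803c1c0d0602c0c050200c15098441e0401001f2fa7b3d1e4f0773b1d4e873391c4e06f371b4b85b2d164b0572b154a85326930964a24882d96bb55a6d167b3596c963a9144a04f2718ac360afd7a904723114884321104803f1f0f4783b1d0e470371b0d43f1e8ec72372f170b4582b0d46631178b456291389446bb34198c86230150a4502713094482311084200f07034180b0502410070301408030100003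

set_option maxHeartbeats 0 in
theorem agreeWE7 : AgreeW chevE7 fastE7 fastWE7 where
  hsimple := by decide +kernel
  hsl := by decide +kernel
  hrefl := by decide +kernel
  hmono := by decide +kernel
  heta := by decide +kernel

end Cfsg.Agent.Lib.Helper7
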