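import Cfsg.Agent.Lib.Helper7.TabF4
import Cfsg.Agent.Lib.Helper7.Refl

set_option autoImplicit false

namespace Cfsg.Agent.Lib.Helper7

open Cfsg.Lie

noncomputable def fastWF4 : FastW where
  S := 0x18191b21
  R := 0x2e978b4582b14ca8502712c98472411084401e8f8723a1b0cc682f188a85a281209c40230f07034160c8482a10070281a080301000032f16cb8582a958a45026938944822918843f200f074371c0c05a35158cc5c2614890441e10870301b0b050201307030100b030080a002f170ac592d150a44f281248e4c2510c88401a8cc7639148fc7a301708c4237138945a2b0f0683a14090642e0e0883014040382004002f170b451208fc7a5827934963a1c0d83a572a94c9247228d06430170b0541b0c85c1a0b0490c50261205426110308c421f078100400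

set_option maxHeartbeats 0 in
theorem agreeWF4 : AgreeW chevF4 fastF4 fastWF4 where
  hsimple := by decide +kernel
  hsl := by decide +kernel
  hrefl := by decide +kernel
  hmono := by decide +kernel
  heta := by decide +kernel

end Cfsg.Agent.Lib.Helper7
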